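import Groth.Agent.Lib.RelCI.Flat

/-!
# Koszul regularity and flatness of relative global complete intersections
-/

universe u

open TensorProduct IsLocalRing RingTheory.Sequence MvPolynomial

namespace GrothLib.RelCI

variable {A : Type u} [CommRing A] {n : ℕ} (f : Fin n → MvPolynomial (Fin n) A)

lemma ofList_ofFn {R : Type u} [CommRing R] {n : ℕ} (g : Fin n → R) :
    Ideal.ofList (List.ofFn g) = Ideal.span (Set.range g) := by
  rw [Ideal.ofList]
  congr 1
  exact Set.ext fun b => List.mem_ofFn' g b

lemma span_range_rev {R : Type u} [CommRing R] {n : ℕ} (g : Fin n → R) :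
    Ideal.span (Set.range fun i => g (Fin.rev i)) = Ideal.span (Set.range g) := by
  rw [show (fun i => g (Fin.rev i)) = g ∘ Fin.rev from rfl, Set.range_comp,
    Fin.rev_surjective.range_eq, Set.image_univ]

lemma quasiFinite_congr {I J : Ideal (MvPolynomial (Fin n) A)} (h : I = J)
    [Algebra.QuasiFinite A (MvPolynomial (Fin n) A ⧸ I)] :
    Algebra.QuasiFinite A (MvPolynomial (Fin n) A ⧸ J) :=
  Algebra.QuasiFinite.of_surjective_algHom (Ideal.quotientEquivAlgOfEq A h).toAlgHom
    (Ideal.quotientEquivAlgOfEq A h).surjective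

/-- The equations form a Koszul regular sequence. -/
theorem isKoszulRegularSeq [Algebra.QuasiFinite A (quot f)] :
    LCI.IsKoszulRegularSeq (MvPolynomial (Fin n) A) (List.ofFn f) := by
  refine GrothLib.KoszulColon.isKoszulRegularSeq_of_localized _ fun q _ hq => ?_
  refine GrothLib.KoszulColon.isKoszulRegularSeq_of_isWeaklyRegular _ ?_
  haveI : Algebra.QuasiFinite A (quot fun i => f (Fin.rev i)) :=
    quasiFinite_congr (span_range_rev f).symm
  have h := GrothLib.FibreFlat.weaklyRegular_of_flat_aeval
    (flat_aeval_atPrime (fun i => f (Fin.rev i)) q (by rw [span_range_rev, ← ofList_ofFn]; exact hq))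
  rw [List.map_ofFn]
  convert h using 1
  refine List.ext_getElem (by simp) fun i h₁ h₂ => ?_
  simp only [List.getElem_reverse, List.getElem_ofFn, Function.comp_apply]
  congr 2
  ext
  simp [Fin.rev]
  omega

/-- The quotient is flat over the base. -/
theorem flat [Algebra.QuasiFinite A (quot f)] : Module.Flat A (quot f) := by
  let P := MvPolynomial (Fin n) A
  let I := Ideal.span (Set.range f)
  refine Module.flat_of_isLocalized_maximal (quot f) (quot f)
    (fun M _ => Localization.AtPrime M) (fun M _ => Algebra.linearMap _ _) fun M _ => ?_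
  let q := M.comap (Ideal.Quotient.mk I)
  have hI : I ≤ q := fun x hx => by
    rw [Ideal.mem_comap, Ideal.Quotient.eq_zero_iff_mem.2 hx]
    exact M.zero_mem
  let S := Localization.AtPrime q
  let a : Fin n → S := fun i => algebraMap P S (f i)
  have hfl := GrothLib.FibreFlat.flat_quotient_of_flat_aeval (flat_aeval_atPrime f q hI)
  have hJ : Ideal.ofList (List.ofFn a) = I.map (algebraMap P S) := by
    rw [ofList_ofFn, Ideal.map_span, ← Set.range_comp]
    rfl
  rw [hJ] at hfl
  haveI : IsLocalization (M.primeCompl) (S ⧸ I.map (algebraMap P S)) := by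
    have hsub : M.primeCompl = Algebra.algebraMapSubmonoid (P ⧸ I) q.primeCompl := by
      refine SetLike.ext fun x => ⟨fun hx => ?_, ?_⟩
      · obtain ⟨x, rfl⟩ := Ideal.Quotient.mk_surjective x
        exact ⟨x, hx, rfl⟩
      · rintro ⟨y, hy, rfl⟩
        exact hy
    rw [hsub]
    infer_instance
  haveI : IsScalarTower A (quot f) (S ⧸ I.map (algebraMap P S)) :=
    ⟨fun r b y => by
      obtain ⟨b, rfl⟩ := Ideal.Quotient.mk_surjective b
      obtain ⟨y, rfl⟩ := Ideal.Quotient.mk_surjective y
      rw [show r • Ideal.Quotient.mk (Ideal.span (Set.range f)) b = Ideal.Quotient.mk _ (r • b) from rfl,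
        Algebra.smul_def (R := quot f) (A := S ⧸ I.map (algebraMap P S)),
        Algebra.smul_def (R := quot f) (A := S ⧸ I.map (algebraMap P S))]
      show Ideal.Quotient.mk (I.map (algebraMap P S)) (algebraMap P S (r • b) * y) =
        Ideal.Quotient.mk (I.map (algebraMap P S)) (r • (algebraMap P S b * y))
      rw [Algebra.algebraMap_eq_smul_one (R := P), Algebra.algebraMap_eq_smul_one (R := P),
        smul_assoc, smul_mul_assoc]⟩
  let e := (IsLocalization.algEquiv M.primeCompl (S ⧸ I.map (algebraMap P S))
    (Localization.AtPrime M)).restrictScalars A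
  haveI : Module.Flat A (S ⧸ I.map (algebraMap P S)) :=
    (@RingHom.flat_algebraMap_iff A (S ⧸ I.map (algebraMap P S)) _ _ (Ideal.Quotient.algebra A)).1 hfl
  exact Module.Flat.of_linearEquiv e.toLinearEquiv.symm

end GrothLib.RelCI
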