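import Groth.Agent.Lib.RelCI.Basic
import Groth.Agent.Lib.KoszulColon.Colon
import Groth.Prelude.Def_Disc
import Mathlib.Algebra.MvPolynomial.PDeriv

/-!
# The diagonal of a relative complete intersection and its Jacobian
-/

universe u

open TensorProduct MvPolynomial

namespace GrothLib.RelCI


namespace Gen

variable {A P B : Type u} [CommRing A] [CommRing P] [CommRing B] [Algebra A P] [Algebra A B]
  (π : P →ₐ[A] B)

/-- Evaluation at the universal zero. -/
noncomputable abbrev eval : P ⊗[A] B →ₐ[A] B :=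
  Algebra.TensorProduct.productMap π (AlgHom.id A B)

theorem ker_eval {ι : Type*} (x : ι → P) (hx : Algebra.adjoin A (Set.range x) = ⊤) :
    Ideal.span (Set.range fun j => x j ⊗ₜ[A] (1 : B) - 1 ⊗ₜ π (x j)) = RingHom.ker (eval π) := by
  refine le_antisymm (Ideal.span_le.2 ?_) fun z hz => ?_
  · rintro _ ⟨j, rfl⟩
    simp [eval]
  let J : Ideal (P ⊗[A] B) := Ideal.span (Set.range fun j => x j ⊗ₜ[A] (1 : B) - 1 ⊗ₜ π (x j))
  let q₁ : P →ₐ[A] (P ⊗[A] B) ⧸ J :=
    (Ideal.Quotient.mkₐ A J).comp Algebra.TensorProduct.includeLeft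
  let q₂ : P →ₐ[A] (P ⊗[A] B) ⧸ J :=
    ((Ideal.Quotient.mkₐ A J).comp Algebra.TensorProduct.includeRight).comp π
  have hagree : q₁ = q₂ := AlgHom.ext_of_adjoin_eq_top hx (by
    rintro _ ⟨j, rfl⟩
    exact Ideal.Quotient.eq.2 (Ideal.subset_span ⟨j, rfl⟩))
  have h : ∀ w, Ideal.Quotient.mk J w = Ideal.Quotient.mk J (1 ⊗ₜ eval π w) := by
    intro w
    induction w using TensorProduct.induction_on with
    | zero => simp
    | tmul p b =>
      rw [show (p ⊗ₜ[A] b : P ⊗[A] B) = (p ⊗ₜ 1) * (1 ⊗ₜ b) by simp, map_mul,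
        show Ideal.Quotient.mk J (p ⊗ₜ 1) = Ideal.Quotient.mk J (1 ⊗ₜ π p) from
          DFunLike.congr_fun hagree p, ← map_mul]
      simp [eval]
    | add x y hx hy => simp only [map_add, tmul_add, hx, hy]
  have h0 := h z
  rw [show eval π z = 0 from hz, tmul_zero, map_zero] at h0
  exact Ideal.Quotient.eq_zero_iff_mem.1 h0

theorem exists_coeffs {ι κ : Type*} [Fintype κ] (f : ι → P) (hf : ∀ i, π (f i) = 0) (x : κ → P)
    (hx : Algebra.adjoin A (Set.range x) = ⊤) :
    ∃ c : Matrix ι κ (P ⊗[A] B),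
      ∀ i, f i ⊗ₜ[A] (1 : B) = ∑ j, c i j * (x j ⊗ₜ[A] (1 : B) - 1 ⊗ₜ π (x j)) := by
  have h : ∀ i, ∃ c : κ → P ⊗[A] B,
      f i ⊗ₜ[A] (1 : B) = ∑ j, c j * (x j ⊗ₜ[A] (1 : B) - 1 ⊗ₜ π (x j)) := fun i => by
    have hi : f i ⊗ₜ[A] (1 : B) ∈
        Ideal.span (Set.range fun j => x j ⊗ₜ[A] (1 : B) - 1 ⊗ₜ π (x j)) := by
      rw [ker_eval π x hx, RingHom.mem_ker]
      simp [eval, hf i]
    obtain ⟨c, hc⟩ := Ideal.mem_span_range_iff_exists_fun.1 hi
    exact ⟨c, hc.symm⟩
  choose c hc using h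
  exact ⟨Matrix.of c, hc⟩

/-- The coefficients evaluate to the partial derivatives. -/
theorem eval_coeff {κ : Type*} [Fintype κ] [DecidableEq κ] (x : κ → P) (D : Derivation A P P)
    (j : κ) (hD : ∀ l, D (x l) = if l = j then 1 else 0) (p : P) (c : κ → P ⊗[A] B)
    (hc : p ⊗ₜ[A] (1 : B) = ∑ l, c l * (x l ⊗ₜ[A] (1 : B) - 1 ⊗ₜ π (x l))) :
    eval π (c j) = π (D p) := by
  let L : P ⊗[A] B →ₗ[A] B :=
    (LinearMap.mul' A B).comp (TensorProduct.map (π.toLinearMap.comp D.toLinearMap) LinearMap.id)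
  have hL : ∀ z w, L (z * w) = eval π z * L w + eval π w * L z := by
    intro z w
    induction z using TensorProduct.induction_on with
    | zero => simp
    | add x y hx hy => simp only [add_mul, map_add, hx, hy, mul_add]; abel
    | tmul p b =>
      induction w using TensorProduct.induction_on with
      | zero => simp
      | add x y hx hy => simp only [mul_add, map_add, hx, hy, add_mul]; abel
      | tmul p' b' =>
        simp only [L, eval, Algebra.TensorProduct.tmul_mul_tmul, LinearMap.comp_apply,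
          TensorProduct.map_tmul, Derivation.coeFn_coe, Derivation.leibniz, smul_eq_mul,
          AlgHom.toLinearMap_apply, map_add, map_mul, LinearMap.mul'_apply, LinearMap.id_apply,
          Algebra.TensorProduct.productMap_apply_tmul, AlgHom.id_apply]
        ring
  have hg : ∀ l, L (x l ⊗ₜ[A] (1 : B) - 1 ⊗ₜ π (x l)) = if l = j then 1 else 0 := by
    intro l
    simp [L, hD, apply_ite π]
  have hg0 : ∀ l, eval π (x l ⊗ₜ[A] (1 : B) - 1 ⊗ₜ π (x l)) = 0 := fun l => by simp [eval]
  have h := congrArg L hc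
  rw [map_sum] at h
  simp only [hL, hg0, zero_mul, add_zero, hg, mul_ite, mul_one, mul_zero, Finset.sum_ite_eq',
    Finset.mem_univ, if_true] at h
  rw [← h]
  simp [L]

theorem lmul_map (z : P ⊗[A] B) :
    Algebra.TensorProduct.lmul' (S := B) A (Algebra.TensorProduct.map π (AlgHom.id A B) z) =
      eval π z := by
  refine DFunLike.congr_fun (?_ :
    (Algebra.TensorProduct.lmul' (S := B) A).comp (Algebra.TensorProduct.map π (AlgHom.id A B)) =
      eval π) z
  ext <;> simp [eval]

end Gen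

variable {A : Type u} [CommRing A] {n : ℕ} (f : Fin n → MvPolynomial (Fin n) A)

/-- The generators of the kernel of the evaluation at the universal zero. -/
noncomputable def gens (j : Fin n) : MvPolynomial (Fin n) A ⊗[A] quot f :=
  X j ⊗ₜ 1 - 1 ⊗ₜ Ideal.Quotient.mk (Ideal.span (Set.range f)) (X j)

/-- Evaluation at the universal zero. -/
noncomputable abbrev evalZero : MvPolynomial (Fin n) A ⊗[A] quot f →ₐ[A] quot f :=
  Algebra.TensorProduct.productMap (Ideal.Quotient.mkₐ A (Ideal.span (Set.range f)))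
    (AlgHom.id A (quot f))

/-- The comparison map to the enveloping algebra. -/
noncomputable abbrev toEnv : MvPolynomial (Fin n) A ⊗[A] quot f →ₐ[A] quot f ⊗[A] quot f :=
  Algebra.TensorProduct.map (Ideal.Quotient.mkₐ A (Ideal.span (Set.range f))) (AlgHom.id A (quot f))

theorem span_gens : Ideal.span (Set.range (gens f)) = RingHom.ker (evalZero f) :=
  Gen.ker_eval (Ideal.Quotient.mkₐ A (Ideal.span (Set.range f))) X MvPolynomial.adjoin_range_X

theorem exists_coeffs : ∃ c : Matrix (Fin n) (Fin n) (MvPolynomial (Fin n) A ⊗[A] quot f),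
    ∀ i, f i ⊗ₜ[A] (1 : quot f) = ∑ j, c i j * gens f j :=
  Gen.exists_coeffs (Ideal.Quotient.mkₐ A (Ideal.span (Set.range f))) f
    (fun i => Ideal.Quotient.eq_zero_iff_mem.2 (Ideal.subset_span ⟨i, rfl⟩)) X
    MvPolynomial.adjoin_range_X

/-- The coefficients evaluate to the partial derivatives. -/
theorem evalZero_coeff (c : Matrix (Fin n) (Fin n) (MvPolynomial (Fin n) A ⊗[A] quot f))
    (hc : ∀ i, f i ⊗ₜ[A] (1 : quot f) = ∑ j, c i j * gens f j) (i j : Fin n) :
    evalZero f (c i j) = Ideal.Quotient.mk (Ideal.span (Set.range f)) (pderiv j (f i)) :=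
  Gen.eval_coeff (Ideal.Quotient.mkₐ A (Ideal.span (Set.range f))) X (pderiv j) j
    (fun l => by rw [pderiv_X, Pi.single_apply]) (f i) (c i) (hc i)

/-- The Jacobian determinant in the quotient. -/
noncomputable abbrev jac : quot f :=
  Ideal.Quotient.mk (Ideal.span (Set.range f)) (Matrix.det (Matrix.of fun i j => pderiv j (f i)))

theorem evalZero_det (c : Matrix (Fin n) (Fin n) (MvPolynomial (Fin n) A ⊗[A] quot f))
    (hc : ∀ i, f i ⊗ₜ[A] (1 : quot f) = ∑ j, c i j * gens f j) :
    evalZero f c.det = jac f := by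
  refine (AlgHom.map_det (evalZero f) c).trans ?_
  refine Eq.trans ?_ (RingHom.map_det _ _).symm
  exact congrArg Matrix.det (Matrix.ext fun i j => evalZero_coeff f c hc i j)

theorem lmul_toEnv (z : MvPolynomial (Fin n) A ⊗[A] quot f) :
    Algebra.TensorProduct.lmul' (S := quot f) A (toEnv f z) = evalZero f z :=
  Gen.lmul_map _ z

theorem annihilator_diag [Algebra.QuasiFinite A (quot f)]
    (c : Matrix (Fin n) (Fin n) (MvPolynomial (Fin n) A ⊗[A] quot f))
    (hc : ∀ i, f i ⊗ₜ[A] (1 : quot f) = ∑ j, c i j * gens f j) :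
    Submodule.annihilator (RingHom.ker (Algebra.TensorProduct.lmul' (S := quot f) A)) =
      Ideal.span {toEnv f c.det} :=
  haveI := flat f
  GrothLib.KoszulColon.annihilator_diagonal f (isKoszulRegularSeq f) (gens f) (span_gens f) c hc

theorem noetherDifferent_eq [Algebra.QuasiFinite A (quot f)] :
    Disc.noetherDifferent A (quot f) = Ideal.span {jac f} := by
  obtain ⟨c, hc⟩ := exists_coeffs f
  rw [Disc.noetherDifferent, annihilator_diag f c hc, Ideal.map_span, Set.image_singleton,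
    lmul_toEnv, evalZero_det f c hc]

end GrothLib.RelCI
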