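import Groth.Agent.Lib.RelCI.Socle
import Groth.Agent.Lib.NoetherDiff.PairMatrix
import Mathlib.RingTheory.TensorProduct.Free

/-!
# Duality for relative complete intersections of relative dimension zero
-/

universe u

open TensorProduct MvPolynomial

namespace GrothLib.RelCI

namespace Gen

variable {A K P B P' B' : Type u} [CommRing A] [CommRing K] [Algebra A K] [CommRing P] [CommRing B]
  [Algebra A P] [Algebra A B] [CommRing P'] [CommRing B'] [Algebra K P'] [Algebra K B']
  [Algebra A P'] [Algebra A B'] [IsScalarTower A K P'] [IsScalarTower A K B']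

/-- The change of base of a tensor product of algebras. -/
noncomputable def change (φ₁ : P →ₐ[A] P') (φ₂ : B →ₐ[A] B') : P ⊗[A] B →ₐ[A] P' ⊗[K] B' :=
  Algebra.TensorProduct.lift
    (((Algebra.TensorProduct.includeLeft : P' →ₐ[K] P' ⊗[K] B').restrictScalars A).comp φ₁)
    (((Algebra.TensorProduct.includeRight : B' →ₐ[K] P' ⊗[K] B').restrictScalars A).comp φ₂)
    fun _ _ => Commute.all _ _

theorem change_tmul (φ₁ : P →ₐ[A] P') (φ₂ : B →ₐ[A] B') (p : P) (b : B) :
    change (K := K) φ₁ φ₂ (p ⊗ₜ b) = φ₁ p ⊗ₜ φ₂ b := by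
  simp [change]

theorem change_map (π : P →ₐ[A] B) (π' : P' →ₐ[K] B') (φ₁ : P →ₐ[A] P') (φ₂ : B →ₐ[A] B')
    (h : ∀ p, π' (φ₁ p) = φ₂ (π p)) (z : P ⊗[A] B) :
    change (K := K) φ₂ φ₂ (Algebra.TensorProduct.map π (AlgHom.id A B) z) =
      Algebra.TensorProduct.map π' (AlgHom.id K B') (change φ₁ φ₂ z) := by
  induction z using TensorProduct.induction_on with
  | zero => simp
  | tmul p b => simp [change_tmul, h]
  | add x y hx hy => simp only [map_add, hx, hy]

theorem change_coeffs {n : ℕ} (π : P →ₐ[A] B) (π' : P' →ₐ[K] B') (φ₁ : P →ₐ[A] P')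
    (φ₂ : B →ₐ[A] B') (h : ∀ p, π' (φ₁ p) = φ₂ (π p)) (f : Fin n → P) (x : Fin n → P)
    (c : Matrix (Fin n) (Fin n) (P ⊗[A] B))
    (hc : ∀ i, f i ⊗ₜ[A] (1 : B) = ∑ j, c i j * (x j ⊗ₜ[A] (1 : B) - 1 ⊗ₜ π (x j))) (i : Fin n) :
    φ₁ (f i) ⊗ₜ[K] (1 : B') = ∑ j, (c.map (change (K := K) φ₁ φ₂)) i j *
      (φ₁ (x j) ⊗ₜ[K] (1 : B') - 1 ⊗ₜ π' (φ₁ (x j))) := by
  have h1 := congrArg (change (K := K) φ₁ φ₂) (hc i)
  simp only [map_sum, map_mul, map_sub, change_tmul, map_one, ← h] at h1
  exact h1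

theorem change_det {n : ℕ} (φ₁ : P →ₐ[A] P') (φ₂ : B →ₐ[A] B')
    (c : Matrix (Fin n) (Fin n) (P ⊗[A] B)) :
    change (K := K) φ₁ φ₂ c.det = (c.map (change (K := K) φ₁ φ₂)).det :=
  (change (K := K) φ₁ φ₂).map_det c

theorem basis_change {ι : Type*} (e : Module.Basis ι A B) (Φ : K ⊗[A] B ≃ₐ[K] B') (φ₂ : B →ₐ[A] B')
    (h : ∀ b, Φ (1 ⊗ₜ b) = φ₂ b) :
    ∃ e' : Module.Basis ι K B', ∀ i, e' i = φ₂ (e i) :=
  ⟨(Algebra.TensorProduct.basis K e).map Φ.toLinearEquiv, fun i => by
    rw [Module.Basis.map_apply, Algebra.TensorProduct.basis_apply]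
    exact h _⟩

end Gen

variable {A : Type u} [CommRing A] {n : ℕ} (f : Fin n → MvPolynomial (Fin n) A)
variable (K : Type u) [CommRing K] [Algebra A K]

/-- The equations over another base. -/
noncomputable abbrev baseChangeSeq : Fin n → MvPolynomial (Fin n) K :=
  fun i => MvPolynomial.map (algebraMap A K) (f i)

/-- The map of polynomial rings. -/
noncomputable abbrev polyMap : MvPolynomial (Fin n) A →ₐ[A] MvPolynomial (Fin n) K :=
  MvPolynomial.mapAlgHom (Algebra.ofId A K)

/-- The map of quotients. -/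
noncomputable def quotMap : quot f →ₐ[A] quot (baseChangeSeq f K) :=
  Ideal.Quotient.liftₐ _
    ((Ideal.Quotient.mkₐ A (Ideal.span (Set.range (baseChangeSeq f K)))).comp (polyMap K)) fun x hx => by
      have : Ideal.span (Set.range f) ≤
          (Ideal.span (Set.range (baseChangeSeq f K))).comap (polyMap K) := by
        rw [Ideal.span_le]
        rintro _ ⟨i, rfl⟩
        exact Ideal.subset_span ⟨i, rfl⟩
      exact Ideal.Quotient.eq_zero_iff_mem.2 (this hx)

theorem quotMap_mk (p : MvPolynomial (Fin n) A) :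
    quotMap f K (Ideal.Quotient.mk _ p) = Ideal.Quotient.mk _ (polyMap K p) := rfl

/-- The fibre of the quotient. -/
theorem exists_quotEquiv : ∃ Φ : K ⊗[A] quot f ≃ₐ[K] quot (baseChangeSeq f K),
    ∀ b, Φ (1 ⊗ₜ b) = quotMap f K b := by
  let Φ : K ⊗[A] quot f →ₐ[K] quot (baseChangeSeq f K) :=
    Algebra.TensorProduct.lift (Algebra.ofId K _) (quotMap f K) fun _ _ => Commute.all _ _
  let y : Fin n → K ⊗[A] quot f := fun j => 1 ⊗ₜ Ideal.Quotient.mk _ (X j)
  have hy : ((aeval y : MvPolynomial (Fin n) K →ₐ[K] K ⊗[A] quot f).restrictScalars A).comp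
        (polyMap K) =
      Algebra.TensorProduct.includeRight.comp (Ideal.Quotient.mkₐ A (Ideal.span (Set.range f))) :=
    MvPolynomial.algHom_ext fun j => by simp [y]
  let Ψ : quot (baseChangeSeq f K) →ₐ[K] K ⊗[A] quot f :=
    Ideal.Quotient.liftₐ _ (aeval y) fun x hx => by
      have : Ideal.span (Set.range (baseChangeSeq f K)) ≤ RingHom.ker (aeval y) := by
        rw [Ideal.span_le]
        rintro _ ⟨i, rfl⟩
        have h := DFunLike.congr_fun hy (f i)
        refine h.trans ?_
        have h0 : (Ideal.Quotient.mk (Ideal.span (Set.range f)) (f i) : quot f) = 0 :=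
          Ideal.Quotient.eq_zero_iff_mem.2 (Ideal.subset_span (Set.mem_range_self i))
        exact (congrArg (Algebra.TensorProduct.includeRight : quot f →ₐ[A] K ⊗[A] quot f) h0).trans (map_zero _)
      exact this hx
  have h1 : Φ.comp Ψ = AlgHom.id K _ := Ideal.Quotient.algHom_ext K <| MvPolynomial.algHom_ext fun j => by
    show Φ (aeval y (X j)) = Ideal.Quotient.mk _ (X j)
    rw [aeval_X]
    show Φ (1 ⊗ₜ _) = _
    rw [Algebra.TensorProduct.lift_tmul, map_one, one_mul, quotMap_mk]
    simp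
  have h2 : Ψ.comp Φ = AlgHom.id K _ := by
    refine Algebra.TensorProduct.ext' fun c b => ?_
    obtain ⟨p, rfl⟩ := Ideal.Quotient.mk_surjective b
    simp only [AlgHom.comp_apply, AlgHom.id_apply, Φ]
    rw [Algebra.TensorProduct.lift_tmul, map_mul, quotMap_mk]
    show Ψ (algebraMap K _ c) * aeval y (polyMap K p) = _
    rw [AlgHom.commutes, show aeval y (polyMap K p) = 1 ⊗ₜ Ideal.Quotient.mk _ p from
      DFunLike.congr_fun hy p, Algebra.TensorProduct.algebraMap_apply,
      Algebra.TensorProduct.tmul_mul_tmul, mul_one, one_mul]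
    rfl
  exact ⟨AlgEquiv.ofAlgHom Φ Ψ h1 h2, fun b => by simp [Φ]⟩

open GrothLib.NoetherDiff in
/-- The generator of the diagonal annihilator identifies the dualizing module with the algebra. -/
theorem pair_bijective [Module.Finite A (quot f)] [Module.Free A (quot f)]
    (c : Matrix (Fin n) (Fin n) (MvPolynomial (Fin n) A ⊗[A] quot f))
    (hc : ∀ i, f i ⊗ₜ[A] (1 : quot f) = ∑ j, c i j * gens f j) :
    Function.Bijective fun l => pair l (toEnv f c.det) := by
  classical
  let e := Module.Free.chooseBasis A (quot f)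
  rw [pair_bijective_iff e, Matrix.isUnit_iff_isUnit_det]
  by_contra hu
  obtain ⟨p, hp, hdp⟩ := exists_max_ideal_of_mem_nonunits hu
  let k := p.ResidueField
  let K := AlgebraicClosure k
  let f' := baseChangeSeq f K
  let φ₂ := quotMap f K
  obtain ⟨Φ, hΦ⟩ := exists_quotEquiv f K
  haveI : Module.Finite K (quot f') := Module.Finite.equiv Φ.toLinearEquiv
  obtain ⟨e', he'⟩ := Gen.basis_change e Φ φ₂ hΦ
  let π := Ideal.Quotient.mkₐ A (Ideal.span (Set.range f))
  let π' := Ideal.Quotient.mkₐ K (Ideal.span (Set.range f'))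
  let c' := c.map (Gen.change (K := K) (polyMap (n := n) K) φ₂)
  have hcomm : ∀ q, π' (polyMap K q) = φ₂ (π q) := fun q => rfl
  have hc' : ∀ i, f' i ⊗ₜ[K] (1 : quot f') = ∑ j, c' i j * gens f' j := by
    intro i
    have h := Gen.change_coeffs π π' (polyMap (n := n) K) φ₂ hcomm f X c hc i
    have hX : ∀ x, polyMap (A := A) (n := n) K (X x) = X x := fun x => by simp
    simp only [hX] at h
    exact h
  have hann : Submodule.annihilator (diag K (quot f')) = Ideal.span {toEnv f' c'.det} :=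
    annihilator_diag f' c' hc'
  obtain ⟨e₀⟩ := exists_omega_equiv (k := K) (B := quot f') fun ψ => socle_line f' ψ
  have hbij := pair_bijective_of_equiv _ hann e₀
  rw [pair_bijective_iff e', Matrix.isUnit_iff_isUnit_det] at hbij
  have hz : (Gen.change (K := K) φ₂ φ₂).toRingHom (toEnv f c.det) = toEnv f' c'.det := by
    refine (Gen.change_map π π' (polyMap K) φ₂ hcomm c.det).trans ?_
    exact congrArg _ (Gen.change_det _ _ c)
  rw [← hz, mat_map e e' (algebraMap A K) φ₂.toRingHom (fun a => φ₂.commutes a)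
    he' _ (fun x y => Gen.change_tmul φ₂ φ₂ x y), ← RingHom.mapMatrix_apply, ← RingHom.map_det,
    IsScalarTower.algebraMap_apply A k K, Ideal.algebraMap_residueField_eq_zero.2 hdp, map_zero]
    at hbij
  exact not_isUnit_zero hbij

open GrothLib.NoetherDiff in
/-- The dualizing module is free, with the trace corresponding to the Jacobian. -/
theorem exists_equiv_omega [Module.Finite A (quot f)] [Module.Free A (quot f)] :
    ∃ e : quot f ≃ₗ[quot f] Disc.Omega A (quot f),
      e (jac f) = Disc.Omega.trace A (quot f) := by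
  obtain ⟨c, hc⟩ := exists_coeffs f
  have hmem : toEnv f c.det ∈ Submodule.annihilator (diag A (quot f)) := by
    show toEnv f c.det ∈ Submodule.annihilator
      (RingHom.ker (Algebra.TensorProduct.lmul' (S := quot f) A))
    rw [annihilator_diag f c hc]
    exact Ideal.mem_span_singleton_self _
  let θ := LinearEquiv.ofBijective (toHom _ hmem) (pair_bijective f c hc)
  refine ⟨θ.symm, θ.symm_apply_eq.2 ?_⟩
  show jac f = pair (Disc.Omega.trace A (quot f)) (toEnv f c.det)
  rw [pair_trace hmem, lmul_toEnv, evalZero_det f c hc]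

/-- Over a field. -/
theorem nonempty_omega_equiv_of_dim_zero {k : Type u} [Field k]
    (g : Fin n → MvPolynomial (Fin n) k) (h0 : ringKrullDim (quot g) = 0) :
    Nonempty (Disc.Omega k (quot g) ≃ₗ[quot g] quot g) := by
  haveI : Ring.KrullDimLE 0 (quot g) := Ring.krullDimLE_iff.2 h0.le
  haveI : IsArtinianRing (quot g) := isArtinianRing_iff_isNoetherianRing_krullDimLE_zero.2
    ⟨inferInstance, inferInstance⟩
  haveI : Module.Finite k (quot g) := Module.finite_iff_isArtinianRing k (quot g) |>.2 inferInstance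
  obtain ⟨e, -⟩ := exists_equiv_omega g
  exact ⟨e.symm⟩

end GrothLib.RelCI
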