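import Groth.Agent.Lib.CMFree.Params
import Groth.Agent.Lib.GrpSchField.HeightMax
import Groth.Agent.Lib.QFSlice.Slice
import Mathlib.RingTheory.RegularLocalRing.Polynomial
import Mathlib.RingTheory.Regular.RegularSequence

/-!
# The fibres of a relative global complete intersection of relative dimension zero
-/

universe u

open IsLocalRing RingTheory.Sequence MvPolynomial

namespace GrothLib.RelCI

/-- Over a field, a sequence of `n` polynomials in `n` variables with finite quotient is regular at
every prime containing it. -/
theorem isRegular_localization {k : Type u} [Field k] {n : ℕ}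
    (g : Fin n → MvPolynomial (Fin n) k)
    [Module.Finite k (MvPolynomial (Fin n) k ⧸ Ideal.span (Set.range g))]
    (Q : Ideal (MvPolynomial (Fin n) k)) [Q.IsPrime] (hQ : Ideal.span (Set.range g) ≤ Q) :
    Q.IsMaximal ∧ IsRegular (Localization.AtPrime Q)
      ((List.ofFn g).map (algebraMap (MvPolynomial (Fin n) k) (Localization.AtPrime Q))) := by
  let K := MvPolynomial (Fin n) k
  let J := Ideal.span (Set.range g)
  have hmax : ∀ Q' : Ideal K, Q'.IsPrime → J ≤ Q' → Q'.IsMaximal := by
    intro Q' _ hQ'
    haveI : Module.Finite k (K ⧸ Q') := Module.Finite.of_surjective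
      (Ideal.Quotient.factorₐ k hQ').toLinearMap (Ideal.Quotient.factor_surjective hQ')
    haveI : IsArtinianRing (K ⧸ Q') := IsArtinianRing.of_finite k _
    exact Ideal.Quotient.maximal_of_isField _ (IsArtinianRing.isField_of_isDomain _)
  refine ⟨hmax Q inferInstance hQ, ?_⟩
  let L := Localization.AtPrime Q
  haveI : IsRegularRing K := inferInstance
  haveI : IsRegularLocalRing L := inferInstance
  set rs := (List.ofFn g).map (algebraMap K L) with hrs
  have hofList : Ideal.ofList rs = J.map (algebraMap K L) := by
    rw [hrs, ← Ideal.map_ofList, Ideal.ofList]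
    congr 2
    exact Set.ext fun b => List.mem_ofFn' g b
  have hle : Ideal.ofList rs ≤ maximalIdeal L := by
    rw [hofList, ← Localization.AtPrime.map_eq_maximalIdeal]
    exact Ideal.map_mono hQ
  refine GrothLib.CMFree.isRegular_of_ringKrullDim_quotient L rs
    (ne_top_of_le_ne_top (maximalIdeal.isMaximal L).ne_top hle) ?_
  have hzero : ringKrullDim (L ⧸ Ideal.ofList rs) ≤ 0 := by
    refine Ring.krullDimLE_iff.1 (Ring.krullDimLE_zero_iff.2 fun P hP => ?_)
    haveI := hP
    have hcomap : (P.comap (Ideal.Quotient.mk (Ideal.ofList rs))).IsPrime := Ideal.IsPrime.comap _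
    let P' := P.comap (Ideal.Quotient.mk (Ideal.ofList rs))
    have h1 : Ideal.ofList rs ≤ P' := fun x hx => by
      rw [Ideal.mem_comap, Ideal.Quotient.eq_zero_iff_mem.2 hx]
      exact P.zero_mem
    have h2 : J ≤ P'.comap (algebraMap K L) := Ideal.map_le_iff_le_comap.1 (hofList ▸ h1)
    have h3 := hmax _ (Ideal.IsPrime.comap _) h2
    have h4 : P'.comap (algebraMap K L) = Q := h3.eq_of_le (Ideal.IsPrime.ne_top inferInstance) (by
      have := IsLocalRing.le_maximalIdeal (J := P') hcomap.ne_top
      exact (Ideal.comap_mono this).trans (le_of_eq (Localization.AtPrime.comap_maximalIdeal)))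
    have h5 : P' = maximalIdeal L := by
      refine (IsLocalization.map_comap Q.primeCompl L P').symm.trans ?_
      exact (congrArg (Ideal.map (algebraMap K L)) h4).trans Localization.AtPrime.map_eq_maximalIdeal
    have h6 : P = (maximalIdeal L).map (Ideal.Quotient.mk (Ideal.ofList rs)) := by
      rw [← h5, Ideal.map_comap_of_surjective _ Ideal.Quotient.mk_surjective]
    exact h6 ▸ Ideal.IsMaximal.map_of_surjective_of_ker_le Ideal.Quotient.mk_surjective
      (by rw [Ideal.mk_ker]; exact hle)
  have hdim : ringKrullDim L = n := by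
    rw [IsLocalization.AtPrime.ringKrullDim_eq_height Q L,
      GrothLib.GrpSchField.height_eq_of_isMaximal_mvPolynomial k n Q (hmax Q inferInstance hQ)]
    simp
  rw [hdim, List.length_map, List.length_ofFn]
  calc ringKrullDim (L ⧸ Ideal.ofList rs) + (n : WithBot ℕ∞) ≤ 0 + n := by gcongr
    _ = n := zero_add _

end GrothLib.RelCI
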