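import Groth.Agent.Lib.RelCI.Fibre
import Groth.Agent.Lib.KoszulColon.Regular
import Groth.Agent.Lib.FibreFlat.Slice
import Groth.Agent.Lib.FibreFlat.StalkAlg
import Mathlib.RingTheory.QuasiFinite.Basic
import Mathlib.RingTheory.RingHom.Flat

/-!
# Relative global complete intersections of relative dimension zero are flat and Koszul regular
-/

universe u

open TensorProduct IsLocalRing RingTheory.Sequence MvPolynomial

namespace GrothLib.RelCI

variable {A : Type u} [CommRing A] {n : ℕ} (f : Fin n → MvPolynomial (Fin n) A)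

/-- The quotient by the equations. -/
abbrev quot : Type u := MvPolynomial (Fin n) A ⧸ Ideal.span (Set.range f)

instance finite_fibre [Algebra.QuasiFinite A (quot f)] (p : Ideal A) [p.IsPrime] :
    Module.Finite p.ResidueField (MvPolynomial (Fin n) p.ResidueField ⧸
      Ideal.span (Set.range fun i => MvPolynomial.map (algebraMap A p.ResidueField) (f i))) := by
  let k := p.ResidueField
  let g := fun i => MvPolynomial.map (algebraMap A k) (f i)
  let J := Ideal.span (Set.range g)
  let π : MvPolynomial (Fin n) A →ₐ[A] MvPolynomial (Fin n) k :=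
    MvPolynomial.mapAlgHom (Algebra.ofId A k)
  let β : quot f →ₐ[A] MvPolynomial (Fin n) k ⧸ J :=
    Ideal.Quotient.liftₐ _ ((Ideal.Quotient.mkₐ A J).comp π) fun x hx => by
      have : Ideal.span (Set.range f) ≤ J.comap π := by
        rw [Ideal.span_le]
        rintro _ ⟨i, rfl⟩
        exact Ideal.subset_span ⟨i, rfl⟩
      exact Ideal.Quotient.eq_zero_iff_mem.2 (this hx)
  let Φ : k ⊗[A] quot f →ₐ[k] MvPolynomial (Fin n) k ⧸ J :=
    Algebra.TensorProduct.lift (Algebra.ofId k _) β fun _ _ => Commute.all _ _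
  refine Module.Finite.of_surjective Φ.toLinearMap fun y => ?_
  obtain ⟨z, rfl⟩ := Ideal.Quotient.mk_surjective y
  induction z using MvPolynomial.induction_on with
  | C c =>
    refine ⟨c ⊗ₜ 1, ?_⟩
    show Φ (c ⊗ₜ 1) = _
    rw [Algebra.TensorProduct.lift_tmul, map_one, mul_one]
    rfl
  | add a b ha hb =>
    obtain ⟨x, hx⟩ := ha
    obtain ⟨y, hy⟩ := hb
    exact ⟨x + y, by rw [map_add, hx, hy, map_add]⟩
  | mul_X a i ha =>
    obtain ⟨x, hx⟩ := ha
    refine ⟨x * (1 ⊗ₜ Ideal.Quotient.mk _ (X i)), ?_⟩
    show Φ (x * _) = _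
    rw [map_mul, show Φ x = _ from hx, map_mul (Ideal.Quotient.mk J), Algebra.TensorProduct.lift_tmul,
      map_one, one_mul]
    congr 1
    show Ideal.Quotient.mk J (MvPolynomial.map (algebraMap A k) (X i)) = _
    rw [MvPolynomial.map_X]

/-- Polynomials over a localisation. -/
theorem flat_map (A' : Type u) [CommRing A'] [Algebra A A'] (M : Submonoid A)
    [IsLocalization M A'] (n : ℕ) :
    (MvPolynomial.map (σ := Fin n) (algebraMap A A')).Flat := by
  letI := MvPolynomial.algebraMvPolynomial (σ := Fin n) (R := A) (S := A')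
  exact RingHom.flat_algebraMap_iff.2
    (IsLocalization.flat (MvPolynomial (Fin n) A') (M.map (C (σ := Fin n))))

set_option maxHeartbeats 400000 in
/-- The equations define a flat map at the primes containing them. -/
theorem flat_aeval_atPrime [Algebra.QuasiFinite A (quot f)] (q : Ideal (MvPolynomial (Fin n) A))
    [q.IsPrime] (hq : Ideal.span (Set.range f) ≤ q) :
    (MvPolynomial.aeval (R := A) fun i =>
      algebraMap (MvPolynomial (Fin n) A) (Localization.AtPrime q) (f i)).toRingHom.Flat := by
  classical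
  let p := q.comap (algebraMap A (MvPolynomial (Fin n) A))
  let k := p.ResidueField
  let π := MvPolynomial.map (σ := Fin n) (algebraMap A k)
  have hker : RingHom.ker π ≤ q := by
    rw [MvPolynomial.ker_map, Ideal.ker_algebraMap_residueField, Ideal.map_le_iff_le_comap]
    exact le_rfl
  have hclear : ∀ w ∈ q.map π, ∃ s ∉ p, ∃ η ∈ q, π η = C (algebraMap A k s) * w := by
    intro w hw
    induction hw using Submodule.span_induction with
    | mem w hw =>
      obtain ⟨η, hη, rfl⟩ := hw
      exact ⟨1, p.primeCompl.one_mem, η, hη, by simp [π]⟩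
    | zero => exact ⟨1, p.primeCompl.one_mem, 0, q.zero_mem, by simp⟩
    | add a b _ _ ha hb =>
      obtain ⟨s, hs, η, hη, ha⟩ := ha
      obtain ⟨t, ht, θ, hθ, hb⟩ := hb
      refine ⟨s * t, p.primeCompl.mul_mem hs ht, C t * η + C s * θ,
        q.add_mem (q.mul_mem_left _ hη) (q.mul_mem_left _ hθ), ?_⟩
      simp only [π, map_add, map_mul, MvPolynomial.map_C] at ha hb ⊢
      rw [ha, hb]
      ring
    | smul z a _ ha =>
      obtain ⟨s, hs, η, hη, ha⟩ := ha
      obtain ⟨t, θ, ht, hθ⟩ := GrothLib.QFSlice.exists_clear p z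
      refine ⟨s * t, p.primeCompl.mul_mem hs ht, θ * η, q.mul_mem_left _ hη, ?_⟩
      simp only [π, map_mul, smul_eq_mul] at ha ⊢
      rw [hθ, ha]
      ring
  have hCmem : ∀ s ∉ p, (C s : MvPolynomial (Fin n) A) ∉ q := fun s hs => hs
  have hmapq : (q.map π).comap π = q := by
    refine le_antisymm (fun z hz => ?_) Ideal.le_comap_map
    obtain ⟨s, hs, η, hη, h⟩ := hclear _ hz
    have h1 : C s * z - η ∈ q := hker (by
      rw [RingHom.mem_ker, map_sub, map_mul, h]
      simp [π, k])
    exact ((Ideal.IsPrime.mem_or_mem inferInstance (by simpa using q.add_mem h1 hη)).resolve_left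
      (hCmem s hs))
  obtain ⟨Q, hQP, hQ⟩ := (Ideal.comap_map_eq_self_iff_of_isPrime q).1 hmapq
  haveI := hQP
  let g := fun i => π (f i)
  have hgQ : Ideal.span (Set.range g) ≤ Q := by
    rw [Ideal.span_le]
    rintro _ ⟨i, rfl⟩
    have : f i ∈ q := hq (Ideal.subset_span ⟨i, rfl⟩)
    rw [← hQ] at this
    exact this
  haveI : Module.Finite k (MvPolynomial (Fin n) k ⧸ Ideal.span (Set.range g)) := finite_fibre f p
  obtain ⟨-, hreg⟩ := isRegular_localization g Q hgQ
  let R := Localization.AtPrime p
  let S := Localization.AtPrime q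
  obtain ⟨ψ, hψ, hψl⟩ := GrothLib.FibreFlat.exists_localHom
    (algebraMap A (MvPolynomial (Fin n) A)) q R S
  letI : Algebra R S := ψ.toAlgebra
  haveI : IsLocalHom (algebraMap R S) := hψl
  haveI : IsScalarTower A R S := IsScalarTower.of_algebraMap_eq fun x => (hψ x).symm
  have hS : CAlgX.IsEssFinitePresentation R S :=
    GrothLib.FibreFlat.isEssFinitePresentation_localization (R := A) (A := MvPolynomial (Fin n) A)
      p.primeCompl q.primeCompl
  haveI : Module.Flat R S := by
    haveI : Module.Flat A S := Module.Flat.trans A (MvPolynomial (Fin n) A) S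
    exact (Module.flat_iff_of_isLocalization R p.primeCompl S).2 inferInstance
  let mS := (maximalIdeal R).map (algebraMap R S)
  -- the fibre
  let L := Localization.AtPrime Q
  let σ : S →+* L := IsLocalization.map L π (M := q.primeCompl) (T := Q.primeCompl)
    (fun x hx h => hx (hQ ▸ h))
  have hσ : ∀ x, σ (algebraMap _ S x) = algebraMap _ L (π x) := fun x => IsLocalization.map_eq _ x
  have hσsurj : Function.Surjective σ := by
    intro y
    obtain ⟨⟨a, b⟩, hab⟩ := IsLocalization.surj Q.primeCompl y
    obtain ⟨s, η, hs, hη⟩ := GrothLib.QFSlice.exists_clear p a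
    obtain ⟨t, θ, ht, hθ⟩ := GrothLib.QFSlice.exists_clear p (b : MvPolynomial (Fin n) k)
    have hmem : C s * θ ∈ q.primeCompl := by
      refine q.primeCompl.mul_mem (hCmem s hs) fun hθq => b.2 ?_
      have h1 : θ ∈ Q.comap π := by rw [hQ]; exact hθq
      rw [Ideal.mem_comap, hθ] at h1
      refine ((hQP.mem_or_mem h1).resolve_left fun h => hCmem t ht ?_)
      rw [← hQ, Ideal.mem_comap]
      simpa [π, k] using h
    refine ⟨IsLocalization.mk' S (C t * η) (⟨_, hmem⟩ : q.primeCompl), ?_⟩
    rw [IsLocalization.map_mk', IsLocalization.mk'_eq_iff_eq_mul]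
    show algebraMap _ L (π (C t * η)) = y * algebraMap _ L (π (C s * θ))
    have hη' : π η = C (algebraMap A k s) * a := hη
    have hθ' : π θ = C (algebraMap A k t) * (b : MvPolynomial (Fin n) k) := hθ
    have hC : ∀ z, π (C z) = C (algebraMap A k z) := fun z => MvPolynomial.map_C _ z
    rw [map_mul π, map_mul π, hη', hθ', hC, hC]
    simp only [map_mul]
    rw [← hab]
    ring
  have hσker : RingHom.ker σ = mS := by
    refine le_antisymm (fun x hx => ?_) ?_
    · obtain ⟨η, t, rfl⟩ := IsLocalization.exists_mk'_eq q.primeCompl x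
      rw [RingHom.mem_ker, IsLocalization.map_mk', IsLocalization.mk'_eq_zero_iff] at hx
      obtain ⟨m, hm⟩ := hx
      have hη : η ∈ RingHom.ker π := (mul_eq_zero.1 hm).resolve_left fun h => m.2 (h ▸ Q.zero_mem)
      rw [MvPolynomial.ker_map, Ideal.ker_algebraMap_residueField] at hη
      rw [IsLocalization.mk'_eq_mul_mk'_one]
      refine mS.mul_mem_right _ ?_
      have := Ideal.mem_map_of_mem (algebraMap (MvPolynomial (Fin n) A) S) hη
      rw [Ideal.map_map] at this
      refine Ideal.map_le_iff_le_comap.2 (fun a ha => ?_) this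
      rw [Ideal.mem_comap]
      show algebraMap (MvPolynomial (Fin n) A) S (algebraMap A _ a) ∈ mS
      rw [← hψ a]
      exact Ideal.mem_map_of_mem _ (by
        rw [← Localization.AtPrime.map_eq_maximalIdeal]
        exact Ideal.mem_map_of_mem _ ha)
    · refine Ideal.map_le_iff_le_comap.2 ?_
      rw [← Localization.AtPrime.map_eq_maximalIdeal, Ideal.map_le_iff_le_comap]
      intro a ha
      show σ (ψ (algebraMap A R a)) = 0
      rw [hψ, hσ]
      show algebraMap _ L (π (C a)) = 0
      simp [π, k, Ideal.algebraMap_residueField_eq_zero.2 ha]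
  let e : (S ⧸ mS) ≃+* L :=
    (Ideal.quotEquivOfEq hσker.symm).trans (RingHom.quotientKerEquivOfSurjective hσsurj)
  have he : ∀ y, e (Ideal.Quotient.mk mS y) = σ y := fun y => by
    simp only [e, RingEquiv.trans_apply, Ideal.quotEquivOfEq_mk,
      RingHom.quotientKerEquivOfSurjective_apply_mk]
  let a : Fin n → S := fun i => algebraMap (MvPolynomial (Fin n) A) S (f i)
  have hreg' : IsRegular (S ⧸ mS) ((List.ofFn a).map (Ideal.Quotient.mk mS)) := by
    refine (AddEquiv.isRegular_congr (e := e.toAddEquiv) ?_).2 hreg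
    rw [List.map_ofFn, List.map_ofFn, List.forall₂_iff_get]
    refine ⟨by simp, fun i h₁ h₂ x => ?_⟩
    simp only [List.get_eq_getElem, List.getElem_ofFn, Function.comp_apply, smul_eq_mul]
    show e (_ * x) = _
    rw [map_mul, he]
    simp only [a, hσ]
    rfl
  have hflat := GrothLib.FibreFlat.flat_aeval_of_fibre_regular hS a hreg'
  have hloc : (MvPolynomial.map (σ := Fin n) (algebraMap A R)).Flat :=
    flat_map R p.primeCompl n
  have hcomp : (MvPolynomial.aeval (R := A) a).toRingHom =
      (MvPolynomial.aeval (R := R) a).toRingHom.comp (MvPolynomial.map (algebraMap A R)) := by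
    refine MvPolynomial.ringHom_ext (fun x => ?_) (fun i => ?_)
    · simp [IsScalarTower.algebraMap_apply A R S]
    · simp
  rw [hcomp]
  exact RingHom.Flat.comp hloc hflat

end GrothLib.RelCI
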