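import Groth.Agent.Lib.Fitting.Basic
import Mathlib.RingTheory.Kaehler.Basic
import Mathlib.Algebra.MvPolynomial.PDeriv

/-!
# The Kähler different of a presentation with as many equations as variables
-/

universe u

namespace GrothLib.RelCI

open MvPolynomial

section Gen

variable {A P B : Type u} [CommRing A] [CommRing P] [CommRing B] [Algebra A P] [Algebra A B]
  [Algebra P B] [IsScalarTower A P B]

/-- A derivation of `P` killing the kernel modulo `N` descends. -/
theorem exists_descend {N : Type u} [AddCommGroup N] [Module B N] [Module P N] [Module A N]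
    [IsScalarTower P B N] [IsScalarTower A B N] (hsurj : Function.Surjective (algebraMap P B))
    (D : Derivation A P N) (hD : ∀ p, algebraMap P B p = 0 → D p = 0) :
    ∃ δ : Derivation A B N, ∀ p, δ (algebraMap P B p) = D p := by
  have hwd : ∀ p q, algebraMap P B p = algebraMap P B q → D p = D q := fun p q h => by
    rw [← sub_eq_zero, ← map_sub]
    exact hD _ (by rw [map_sub, h, sub_self])
  choose s hs using hsurj
  refine ⟨Derivation.mk'
    { toFun := fun b => D (s b)
      map_add' := fun a b => by rw [← map_add]; exact hwd _ _ (by rw [map_add, hs, hs, hs])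
      map_smul' := fun r b => by
        rw [RingHom.id_apply, ← Derivation.map_smul]
        exact hwd _ _ (by
          rw [hs, Algebra.smul_def r (s b), map_mul, hs, ← IsScalarTower.algebraMap_apply,
            Algebra.smul_def]) }
    fun a b => ?_, fun p => hwd _ _ (hs _)⟩
  show D (s (a * b)) = a • D (s b) + b • D (s a)
  rw [hwd (s (a * b)) (s a * s b) (by rw [map_mul, hs, hs, hs]), Derivation.leibniz,
    ← IsScalarTower.algebraMap_smul B (s a) (D (s b)), ← IsScalarTower.algebraMap_smul B (s b) (D (s a)),
    hs, hs]

open GrothLib.Fitting in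
/-- The Kähler different of a presentation. -/
theorem fitting_kaehler_gen (hsurj : Function.Surjective (algebraMap P B)) {n : ℕ} (f : Fin n → P)
    (hker : RingHom.ker (algebraMap P B) = Ideal.span (Set.range f)) (x : Fin n → P)
    (hx : Algebra.adjoin A (Set.range x) = ⊤) (d : Fin n → Derivation A P P)
    (hd : ∀ j l, d j (x l) = if l = j then 1 else 0) :
    Fitt.ideal B (KaehlerDifferential A B) 0 =
      Ideal.span {(Matrix.of fun i j => algebraMap P B (d j (f i))).det} := by
  classical
  let π := algebraMap P B
  let Dx : Fin n → KaehlerDifferential A B := fun j => KaehlerDifferential.D A B (π (x j))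
  let row : Fin n → Fin n → B := fun i j => π (d j (f i))
  have hD : ∀ p, KaehlerDifferential.D A B (π p) = ∑ j, π (d j p) • Dx j := by
    intro p
    have hp : p ∈ Algebra.adjoin A (Set.range x) := hx ▸ Algebra.mem_top
    induction hp using Algebra.adjoin_induction with
    | mem q hq =>
      obtain ⟨l, rfl⟩ := hq
      rw [Finset.sum_eq_single l]
      · simp [hd, Dx, π]
      · intro j _ hj; simp [hd, Ne.symm hj, π]
      · simp
    | algebraMap a =>
      rw [show π (algebraMap A P a) = algebraMap A B a from
        (IsScalarTower.algebraMap_apply A P B a).symm, Derivation.map_algebraMap]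
      simp
    | add p q _ _ hp hq => simp [π, hp, hq, add_smul, Finset.sum_add_distrib] at hp hq ⊢
    | mul p q _ _ hp hq =>
      simp only [π, map_mul, Derivation.leibniz, smul_eq_mul, map_add] at hp hq ⊢
      rw [hp, hq, Finset.smul_sum, Finset.smul_sum, ← Finset.sum_add_distrib]
      exact Finset.sum_congr rfl fun j _ => by rw [smul_smul, smul_smul, ← add_smul]
  have hrow : ∀ i, row i ∈ rel (R := B) Dx := fun i => by
    rw [mem_rel, ← hD]
    have h : f i ∈ RingHom.ker (algebraMap P B) := hker ▸ Ideal.subset_span ⟨i, rfl⟩
    rw [show π (f i) = 0 from h, map_zero]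
  have hrel : rel (R := B) Dx = Submodule.span B (Set.range row) := by
    refine le_antisymm (fun z hz => ?_) (Submodule.span_le.2 ?_)
    swap
    · rintro _ ⟨i, rfl⟩; exact hrow i
    let N := Submodule.span B (Set.range row)
    let L : P →ₗ[A] (Fin n → B) ⧸ N :=
      (N.mkQ.restrictScalars A).comp (LinearMap.pi fun j =>
        (IsScalarTower.toAlgHom A P B).toLinearMap.comp (d j).toLinearMap)
    have hL : ∀ p, L p = N.mkQ (fun j => π (d j p)) := fun _ => rfl
    let D₀ : Derivation A P ((Fin n → B) ⧸ N) := Derivation.mk' L fun a b => by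
      rw [hL, hL, hL, ← IsScalarTower.algebraMap_smul B a, ← IsScalarTower.algebraMap_smul B b,
        ← map_smul, ← map_smul, ← map_add]
      exact congrArg _ (funext fun j => by simp [π, Derivation.leibniz, Algebra.smul_def])
    obtain ⟨δ, hδ⟩ := exists_descend hsurj D₀ (fun p hp => by
      have hp' : p ∈ Ideal.span (Set.range f) := hker ▸ hp
      refine Submodule.span_induction ?_ (map_zero D₀) (fun a b _ _ ha hb => by
        rw [map_add, ha, hb, add_zero]) (fun r a ha' ha => ?_) hp'
      · rintro _ ⟨i, rfl⟩
        exact (hL (f i)).trans ((Submodule.Quotient.mk_eq_zero N).2 (Submodule.subset_span ⟨i, rfl⟩))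
      · have h : a ∈ RingHom.ker (algebraMap P B) := hker ▸ ha'
        rw [smul_eq_mul, Derivation.leibniz, ha, smul_zero, zero_add,
          ← IsScalarTower.algebraMap_smul B a, show algebraMap P B a = 0 from h, zero_smul])
    have h := congrArg δ.liftKaehlerDifferential (mem_rel.1 hz)
    rw [map_sum, map_zero] at h
    simp only [map_smul, Dx, Derivation.liftKaehlerDifferential_comp_D, π, hδ] at h
    refine (Submodule.Quotient.mk_eq_zero N).1 ?_
    rw [← h]
    show N.mkQ z = _
    conv_lhs => rw [pi_eq_sum_univ' z, map_sum]
    refine Finset.sum_congr rfl fun j _ => ?_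
    rw [map_smul]
    congr 1
    show _ = N.mkQ (fun l => π (d l (x j)))
    congr 1
    funext l
    simp [π, hd, Pi.single_apply, eq_comm, apply_ite (algebraMap P B)]
  have hspan : Submodule.span B (Set.range Dx) = ⊤ := by
    rw [eq_top_iff, ← KaehlerDifferential.span_range_derivation, Submodule.span_le]
    rintro _ ⟨b, rfl⟩
    obtain ⟨p, rfl⟩ := hsurj b
    rw [hD]
    exact Submodule.sum_mem _ fun j _ => Submodule.smul_mem _ _ (Submodule.subset_span ⟨j, rfl⟩)
  rw [ideal_eq_minors Dx hspan, Nat.sub_zero, hrel]
  show minors _ n = Ideal.span {(Matrix.of row).det}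
  refine le_antisymm (minors_le_iff.2 fun z e hz => ?_) ?_
  · choose c hc using fun b => (Submodule.mem_span_range_iff_exists_fun B).1 (hz b)
    have h1 : (Matrix.of fun a b => z b (e a)) =
        ((Matrix.of row).submatrix id e).transpose * (Matrix.of c).transpose := by
      ext a b
      rw [Matrix.mul_apply, Matrix.of_apply, ← hc b, Finset.sum_apply]
      exact Finset.sum_congr rfl fun i _ => mul_comm _ _
    rw [h1, Matrix.det_mul, Matrix.det_transpose]
    refine Ideal.mul_mem_right _ _ (Ideal.mem_span_singleton.2 ?_)
    by_cases he : Function.Bijective e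
    · rw [show (Matrix.of row).submatrix id e = (Matrix.of row).submatrix id (Equiv.ofBijective e he) from rfl,
        Matrix.det_permute']
      exact dvd_mul_left _ _
    · obtain ⟨a, a', haa, hne⟩ : ∃ a a', e a = e a' ∧ a ≠ a' := Function.not_injective_iff.1
        fun hi => he (Finite.injective_iff_bijective.1 hi)
      have h0 : ((Matrix.of row).submatrix id e).det = 0 :=
        Matrix.det_zero_of_column_eq hne fun i => by
          show row i (e a) = row i (e a')
          rw [haa]
      rw [h0]
      exact dvd_zero _
  · rw [Ideal.span_le, Set.singleton_subset_iff, SetLike.mem_coe,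
      show (Matrix.of row).det = (Matrix.of fun a b => row b (id a)).det from
        (Matrix.det_transpose _).symm]
    exact det_mem_minors row id fun j => Submodule.subset_span ⟨j, rfl⟩

end Gen

variable {A : Type u} [CommRing A] {n : ℕ} (f : Fin n → MvPolynomial (Fin n) A)

theorem fitting_kaehler_eq :
    Fitt.ideal (MvPolynomial (Fin n) A ⧸ Ideal.span (Set.range f))
      (KaehlerDifferential A (MvPolynomial (Fin n) A ⧸ Ideal.span (Set.range f))) 0 =
    Ideal.span {Ideal.Quotient.mk (Ideal.span (Set.range f))
      (Matrix.det (Matrix.of fun i j : Fin n => pderiv j (f i)))} := by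
  rw [fitting_kaehler_gen (A := A) (Ideal.Quotient.mk_surjective (I := Ideal.span (Set.range f))) f
    Ideal.mk_ker X MvPolynomial.adjoin_range_X (fun j => pderiv j)
    (fun j l => by rw [pderiv_X, Pi.single_apply])]
  exact congrArg (fun t => Ideal.span {t}) (RingHom.map_det _ _).symm

end GrothLib.RelCI
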