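import Groth.Agent.Lib.RelCI.Diff
import Groth.Agent.Lib.NoetherDiff.Radical
import Mathlib.FieldTheory.IsAlgClosed.AlgebraicClosure
import Mathlib.RingTheory.Ideal.AssociatedPrime.Basic
import Mathlib.LinearAlgebra.Dual.Lemmas
import Mathlib.RingTheory.Artinian.Ring

/-!
# Artinian algebras with simple socles are Gorenstein
-/

universe u

namespace GrothLib.RelCI

open MvPolynomial

/-- Over an infinite field a functional avoids vanishing on finitely many nonzero vectors. -/
theorem exists_dual_ne_zero {k V : Type*} [Field k] [Infinite k] [AddCommGroup V] [Module k V]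
    (s : Finset V) : ∃ ε : V →ₗ[k] k, ∀ v ∈ s, v ≠ 0 → ε v ≠ 0 := by
  classical
  induction s using Finset.induction_on with
  | empty => exact ⟨0, by simp⟩
  | insert v s hv ih =>
    obtain ⟨ε, hε⟩ := ih
    by_cases hv0 : v = 0
    · exact ⟨ε, fun w hw hw0 => hε w ((Finset.mem_insert.1 hw).resolve_left fun h => hw0 (h ▸ hv0)) hw0⟩
    obtain ⟨φ, hφ⟩ : ∃ φ : V →ₗ[k] k, φ v ≠ 0 := by
      by_contra h
      push Not at h
      exact hv0 ((Module.forall_dual_apply_eq_zero_iff k v).1 h)
    obtain ⟨t, ht⟩ := Infinite.exists_notMem_finset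
      ((insert v s).image fun w => -ε w / φ w)
    have ht0 : ∀ w ∈ insert v s, φ w ≠ 0 → ε w + t * φ w ≠ 0 := fun w hw hφw h => ht
      (Finset.mem_image.2 ⟨w, hw, by field_simp; linear_combination (-1 : k) * h⟩)
    refine ⟨ε + t • φ, fun w hw hw0 => ?_⟩
    simp only [LinearMap.add_apply, LinearMap.smul_apply, smul_eq_mul]
    by_cases hφw : φ w = 0
    · rcases Finset.mem_insert.1 hw with rfl | hw
      · exact absurd hφw hφ
      · simpa [hφw] using hε w hw hw0
    · exact ht0 w hw hφw

/-- If at each point the socle is at most a line, the dualizing module is free of rank one. -/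
theorem exists_omega_equiv {k B : Type u} [Field k] [IsAlgClosed k] [CommRing B] [Algebra k B]
    [Module.Finite k B]
    (hsoc : ∀ ψ : B →ₐ[k] k, ∃ v : B, ∀ s : B, (∀ b, b * s = ψ b • s) → ∃ r : k, s = r • v) :
    Nonempty (B ≃ₗ[B] Disc.Omega k B) := by
  classical
  haveI : IsArtinianRing B := IsArtinianRing.of_finite k B
  have hpt : ∀ m : MaximalSpectrum B, ∃ ψ : B →ₐ[k] k, ∀ b, b - algebraMap k B (ψ b) ∈ m.asIdeal := by
    intro m
    haveI := m.isMaximal
    letI : Field (B ⧸ m.asIdeal) := Ideal.Quotient.field _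
    have hbij : Function.Bijective (Algebra.ofId k (B ⧸ m.asIdeal)) :=
      IsAlgClosed.algebraMap_bijective_of_isIntegral (k := k)
    let e := AlgEquiv.ofBijective (Algebra.ofId k (B ⧸ m.asIdeal)) hbij
    refine ⟨e.symm.toAlgHom.comp (Ideal.Quotient.mkₐ k m.asIdeal), fun b => ?_⟩
    rw [← Ideal.Quotient.eq]
    exact (e.apply_symm_apply (Ideal.Quotient.mk m.asIdeal b)).symm
  choose ψ hψ using hpt
  choose v hv using fun m => hsoc (ψ m)
  haveI : Fintype (MaximalSpectrum B) := Fintype.ofFinite _
  obtain ⟨ε, hε⟩ := exists_dual_ne_zero (k := k) (Finset.univ.image v)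
  let F : B →ₗ[B] Disc.Omega k B := LinearMap.toSpanSingleton B _ ⟨ε⟩
  have hinj : Function.Injective F := by
    rw [← LinearMap.ker_eq_bot]
    by_contra hne
    haveI : Nontrivial (LinearMap.ker F) := (Submodule.nontrivial_iff_ne_bot).2 hne
    obtain ⟨P, hP⟩ := associatedPrimes.nonempty B (LinearMap.ker F)
    obtain ⟨hprime, s, hs⟩ := isAssociatedPrime_iff.1 hP
    haveI := hprime
    have hmax : P.IsMaximal := IsArtinianRing.isMaximal_of_isPrime P
    let m : MaximalSpectrum B := ⟨P, hmax⟩
    have hkill : ∀ b, b * (s : B) = ψ m b • (s : B) := by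
      intro b
      have h1 : b - algebraMap k B (ψ m b) ∈ P := hψ m b
      rw [hs, Submodule.mem_colon_singleton, Submodule.mem_bot] at h1
      have h2 := congrArg Subtype.val h1
      simp only [SetLike.val_smul, smul_eq_mul, ZeroMemClass.coe_zero, sub_mul] at h2
      rw [Algebra.smul_def]
      exact sub_eq_zero.1 h2
    obtain ⟨r, hr⟩ := hv m s hkill
    have hs0 : (s : B) ≠ 0 := by
      intro h
      refine hprime.ne_top ?_
      rw [hs, Ideal.eq_top_iff_one, Submodule.mem_colon_singleton, one_smul, Submodule.mem_bot]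
      exact Subtype.ext h
    have h3 : ε s = 0 := by
      have h : ε ((s : B) * 1) = 0 :=
        congrArg (fun l : Disc.Omega k B => l.toLinearMap 1) (LinearMap.mem_ker.1 s.2)
      rwa [mul_one] at h
    rw [hr, map_smul, smul_eq_mul] at h3
    have hv0 : v m ≠ 0 := fun h => hs0 (by rw [hr, h, smul_zero])
    have hr0 : r ≠ 0 := fun h => hs0 (by rw [hr, h, zero_smul])
    exact hε _ (Finset.mem_image.2 ⟨m, Finset.mem_univ _, rfl⟩) hv0
      ((mul_eq_zero.1 h3).resolve_left hr0)
  let G : B →ₗ[k] (B →ₗ[k] k) :=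
    { toFun := fun b => (F b).toLinearMap
      map_add' := fun a b => by rw [map_add]; rfl
      map_smul' := fun r b => by
        rw [RingHom.id_apply]
        refine LinearMap.ext fun x => ?_
        show ε ((r • b) * x) = r • ε (b * x)
        rw [smul_mul_assoc, map_smul] }
  have hG : Function.Injective G := fun a b h => hinj (Disc.Omega.ext h)
  have hsurj : Function.Surjective G :=
    (LinearMap.injective_iff_surjective_of_finrank_eq_finrank Subspace.dual_finrank_eq.symm).1 hG
  refine ⟨LinearEquiv.ofBijective F ⟨hinj, fun l => ?_⟩⟩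
  obtain ⟨b, hb⟩ := hsurj l.toLinearMap
  exact ⟨b, Disc.Omega.ext hb⟩

variable {k : Type u} [Field k] {n : ℕ} (f : Fin n → MvPolynomial (Fin n) k)

theorem ker_aeval_le (a : Fin n → k) (p : MvPolynomial (Fin n) k) (hp : aeval a p = 0) :
    p ∈ Ideal.span (Set.range fun j => (X j : MvPolynomial (Fin n) k) - C (a j)) := by
  let J := Ideal.span (Set.range fun j => (X j : MvPolynomial (Fin n) k) - C (a j))
  have h : Ideal.Quotient.mkₐ k J = (Algebra.ofId k _).comp (aeval a) :=
    MvPolynomial.algHom_ext fun j => by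
      show Ideal.Quotient.mk J (X j) = algebraMap k _ (aeval a (X j))
      rw [aeval_X]
      exact Ideal.Quotient.eq.2 (Ideal.subset_span ⟨j, rfl⟩)
  have h2 := DFunLike.congr_fun h p
  rw [AlgHom.comp_apply, hp, map_zero] at h2
  exact Ideal.Quotient.eq_zero_iff_mem.1 h2

theorem smul_mk (t : k) (z : MvPolynomial (Fin n) k) :
    t • (Ideal.Quotient.mk (Ideal.span (Set.range f)) z : quot f) =
      Ideal.Quotient.mk (Ideal.span (Set.range f)) (C t * z) := by
  rw [← MvPolynomial.smul_eq_C_mul]
  rfl

/-- The socle of a complete intersection at a rational point is at most a line. -/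
theorem socle_line [Module.Finite k (quot f)] (ψ : quot f →ₐ[k] k) :
    ∃ v : quot f, ∀ s : quot f, (∀ b, b * s = ψ b • s) → ∃ r : k, s = r • v := by
  let I := Ideal.span (Set.range f)
  let a : Fin n → k := fun j => ψ (Ideal.Quotient.mk I (X j))
  have ha : ∀ p, aeval a p = ψ (Ideal.Quotient.mk I p) := fun p =>
    DFunLike.congr_fun (MvPolynomial.algHom_ext (f := aeval a)
      (g := ψ.comp (Ideal.Quotient.mkₐ k I)) fun j => by simp [a]) p
  have hf : ∀ i, f i ∈ Ideal.span (Set.range fun j => (X j : MvPolynomial (Fin n) k) - C (a j)) :=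
    fun i => ker_aeval_le a _ (by
      have h0 : (Ideal.Quotient.mk I (f i) : quot f) = 0 :=
        Ideal.Quotient.eq_zero_iff_mem.2 (Ideal.subset_span (Set.mem_range_self i))
      rw [ha]
      exact (congrArg ψ h0).trans (map_zero ψ))
  choose c hc using fun i => Ideal.mem_span_range_iff_exists_fun.1 (hf i)
  have hcolon := GrothLib.KoszulColon.mem_colon_iff f (fun j => X j - C (a j)) (Matrix.of c)
    (fun i => (hc i).symm) (isKoszulRegularSeq f)
  refine ⟨Ideal.Quotient.mk I (Matrix.of c).det, fun s hs => ?_⟩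
  set v := Ideal.Quotient.mk I (Matrix.of c).det with hv
  obtain ⟨z, rfl⟩ := Ideal.Quotient.mk_surjective s
  have hz := (hcolon z).1 fun j => by
    rw [← Ideal.Quotient.eq_zero_iff_mem, map_mul, map_sub, mul_comm, sub_mul, hs]
    refine sub_eq_zero.2 ?_
    rw [smul_mk, map_mul]
  obtain ⟨y, hy, w, hw, rfl⟩ := Submodule.mem_sup.1 hz
  obtain ⟨r, rfl⟩ := Ideal.mem_span_singleton'.1 hw
  have hvkill : ∀ j, Ideal.Quotient.mk I (X j) * v = a j • v := fun j => by
    have h := (hcolon (Matrix.of c).det).2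
      (Submodule.mem_sup_right (Ideal.mem_span_singleton_self _)) j
    rw [← Ideal.Quotient.eq_zero_iff_mem, map_mul, map_sub, ← hv, mul_sub, sub_eq_zero] at h
    rw [hv, smul_mk, ← hv, map_mul, mul_comm, h, ← hv, mul_comm]
  refine ⟨aeval a r, ?_⟩
  rw [map_add, Ideal.Quotient.eq_zero_iff_mem.2 hy, zero_add, map_mul, ← hv]
  clear hs hz hw
  induction r using MvPolynomial.induction_on with
  | C t =>
    rw [hv, smul_mk, map_mul, MvPolynomial.aeval_C]
    rfl
  | add p q hp hq => rw [map_add, map_add, add_mul, hp, hq, add_smul]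
  | mul_X p j hp =>
    rw [map_mul, map_mul, aeval_X, mul_assoc, hvkill, mul_smul_comm, hp, smul_smul, mul_comm (a j)]

end GrothLib.RelCI
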